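import Mathlib

open Finset

namespace Groth.Agent.CompLatIdx.Basic

variable {n : ℕ}

theorem card_quot (K N : Submodule ℤ (Fin n → ℤ)) :
    Nat.card (K ⧸ N.comap K.subtype) = N.toAddSubgroup.relIndex K.toAddSubgroup := rfl

theorem diag_apply (δ : Fin n → ℤ) (x : Fin n → ℤ) (i : Fin n) :
    Matrix.mulVecLin (Matrix.diagonal δ) x i = δ i * x i := by
  simp [Matrix.mulVec_diagonal]

theorem diag_injective (δ : Fin n → ℤ) (hδ : ∀ i, δ i ≠ 0) :
    Function.Injective (Matrix.mulVecLin (Matrix.diagonal δ)) := by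
  intro x y h
  funext i
  have := congrFun h i
  rw [diag_apply, diag_apply] at this
  exact mul_left_cancel₀ (hδ i) this

theorem index_range_diag (δ : Fin n → ℤ) (hδ : ∀ i, δ i ≠ 0) :
    ((LinearMap.range (Matrix.mulVecLin (Matrix.diagonal δ))).toAddSubgroup.index : ℤ) = |∏ i, δ i| := by
  let e := LinearEquiv.ofInjective _ (diag_injective δ hδ)
  have h := Submodule.natAbs_det_equiv (LinearMap.range (Matrix.mulVecLin (Matrix.diagonal δ))) e
  have h2 : (LinearMap.range (Matrix.mulVecLin (Matrix.diagonal δ))).subtype.comp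
      (e : (Fin n → ℤ) →ₗ[ℤ] _) = Matrix.mulVecLin (Matrix.diagonal δ) := LinearMap.ext fun _ => rfl
  have h3 : LinearMap.det (Matrix.mulVecLin (Matrix.diagonal δ)) = ∏ i, δ i := by
    rw [← Matrix.toLin'_apply', LinearMap.det_toLin', Matrix.det_diagonal]
  have h' : (LinearMap.range (Matrix.mulVecLin (Matrix.diagonal δ))).toAddSubgroup.index =
      (∏ i, δ i).natAbs := by
    rw [← h3]
    exact (h.symm.trans (congrArg (fun φ => (LinearMap.det φ).natAbs) h2)).trans rfl
  rw [h', Int.natCast_natAbs]

theorem exists_bezout {ι : Type*} (s : Finset ι) (δ : ι → ℤ) :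
    ∃ g : ι → ℤ, ∑ i ∈ s, g i * δ i = s.gcd δ := by
  classical
  induction s using Finset.induction_on with
  | empty => exact ⟨0, by simp⟩
  | insert a s ha ih =>
    obtain ⟨g, hg⟩ := ih
    rw [Finset.gcd_insert]
    obtain ⟨x, y, hxy⟩ := exists_gcd_eq_mul_add_mul (δ a) (s.gcd δ)
    refine ⟨Function.update (fun i => y * g i) a x, ?_⟩
    rw [Finset.sum_insert ha, hxy, Function.update_self, ← hg, Finset.sum_mul,
      mul_comm (δ a) x]
    congr 1
    exact Finset.sum_congr rfl fun i hi => by
      rw [Function.update_of_ne (show i ≠ a from ne_of_mem_of_not_mem hi ha)]; ring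

/-- sum of coordinates -/
abbrev sumL (n : ℕ) : (Fin n → ℤ) →ₗ[ℤ] ℤ := ∑ i : Fin n, LinearMap.proj i

theorem sumL_apply (x : Fin n → ℤ) : sumL n x = ∑ i, x i := by simp [sumL]

theorem main (hn : 0 < n) (δ : Fin n → ℤ) (hδ : ∀ i, δ i ≠ 0) (N : Submodule ℤ (Fin n → ℤ))
    (hN : N ≤ LinearMap.ker (sumL n ∘ₗ Matrix.mulVecLin (Matrix.diagonal δ))) :
    (N.toAddSubgroup.relIndex
        (LinearMap.ker (sumL n ∘ₗ Matrix.mulVecLin (Matrix.diagonal δ))).toAddSubgroup : ℤ) *
      |∏ i, δ i| =
      univ.gcd δ * (N.map (Matrix.mulVecLin (Matrix.diagonal δ))).toAddSubgroup.relIndex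
        (LinearMap.ker (sumL n)).toAddSubgroup := by
  let D := Matrix.mulVecLin (Matrix.diagonal δ)
  let S := sumL n
  let g := univ.gcd δ
  have hrange : (LinearMap.range D).map S = Submodule.span ℤ {g} := by
    apply le_antisymm
    · rintro _ ⟨_, ⟨x, rfl⟩, rfl⟩
      rw [Submodule.mem_span_singleton]
      obtain ⟨c, hc⟩ : g ∣ S (D x) := by
        rw [sumL_apply]
        exact Finset.dvd_sum fun i hi => by
          rw [diag_apply]; exact dvd_mul_of_dvd_left (Finset.gcd_dvd hi) _
      exact ⟨c, by rw [hc]; simp [mul_comm]⟩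
    · rw [Submodule.span_le, Set.singleton_subset_iff]
      obtain ⟨c, hc⟩ := exists_bezout univ δ
      refine ⟨D c, ⟨c, rfl⟩, ?_⟩
      show sumL n (D c) = g
      rw [sumL_apply]
      simpa [D, diag_apply, mul_comm, g] using hc
  have hsurj : Function.Surjective S := fun z => by
    refine ⟨Pi.single ⟨0, hn⟩ z, ?_⟩
    rw [sumL_apply]; simp
  have hsup : LinearMap.range D ⊔ LinearMap.ker S = (Submodule.span ℤ {g}).comap S := by
    rw [← hrange, Submodule.comap_map_eq]
  have hidx : (((LinearMap.range D ⊔ LinearMap.ker S).toAddSubgroup.index : ℕ) : ℤ) = g := by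
    rw [hsup]
    show ((((Submodule.span ℤ {g}).toAddSubgroup.comap (S : (Fin n → ℤ) →+ ℤ)).index : ℕ) : ℤ) = g
    rw [AddSubgroup.index_comap_of_surjective _ hsurj, Submodule.span_singleton_toAddSubgroup_eq_zmultiples,
      Int.index_zmultiples, Int.natCast_natAbs, abs_of_nonneg]
    exact Int.nonneg_of_normalize_eq_self Finset.normalize_gcd
  have h1 : (LinearMap.range D).toAddSubgroup.relIndex (LinearMap.ker S).toAddSubgroup *
      (LinearMap.range D ⊔ LinearMap.ker S).toAddSubgroup.index =
      (LinearMap.range D).toAddSubgroup.index := by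
    rw [← AddSubgroup.relIndex_sup_left (K := (LinearMap.range D).toAddSubgroup)
      (H := (LinearMap.ker S).toAddSubgroup), ← Submodule.sup_toAddSubgroup]
    exact AddSubgroup.relIndex_mul_index
      (K := (LinearMap.range D ⊔ LinearMap.ker S).toAddSubgroup) fun x hx => Submodule.mem_sup_left hx
  have hK : (LinearMap.ker (S ∘ₗ D)).map D = LinearMap.range D ⊓ LinearMap.ker S := by
    rw [LinearMap.ker_comp, Submodule.map_comap_eq]
  have h2 : N.toAddSubgroup.relIndex (LinearMap.ker (S ∘ₗ D)).toAddSubgroup =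
      (N.map D).toAddSubgroup.relIndex ((LinearMap.ker (S ∘ₗ D)).map D).toAddSubgroup :=
    (AddSubgroup.relIndex_map_map_of_injective _ _
      (f := (D : (Fin n → ℤ) →+ (Fin n → ℤ))) (diag_injective δ hδ)).symm
  have h3 : (N.map D).toAddSubgroup.relIndex ((LinearMap.ker (S ∘ₗ D)).map D).toAddSubgroup *
      (LinearMap.range D).toAddSubgroup.relIndex (LinearMap.ker S).toAddSubgroup =
      (N.map D).toAddSubgroup.relIndex (LinearMap.ker S).toAddSubgroup := by
    rw [← AddSubgroup.inf_relIndex_right (H := (LinearMap.range D).toAddSubgroup)]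
    have e : (LinearMap.range D).toAddSubgroup ⊓ (LinearMap.ker S).toAddSubgroup =
        ((LinearMap.ker (S ∘ₗ D)).map D).toAddSubgroup := by
      rw [hK]; rfl
    rw [e]
    refine AddSubgroup.relIndex_mul_relIndex _ _ _ ?_ ?_
    · exact fun x hx => Submodule.map_mono hN hx
    · intro x hx
      exact (hK.le hx).2
  rw [← index_range_diag δ hδ, ← h1, h2, ← h3, show univ.gcd δ = g from rfl]
  push_cast
  rw [hidx]
  ring

theorem relIndex_range_comp {M N : Type*} [AddCommGroup M] [AddCommGroup N] [Module ℤ M] [Module ℤ N]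
    (f : M →ₗ[ℤ] N) (g : M →ₗ[ℤ] M) :
    (LinearMap.range (f ∘ₗ g)).toAddSubgroup.relIndex (LinearMap.range f).toAddSubgroup =
      ((LinearMap.range g).toAddSubgroup ⊔ (LinearMap.ker f).toAddSubgroup).index := by
  rw [LinearMap.range_comp, LinearMap.range_eq_map f]
  show ((LinearMap.range g).toAddSubgroup.map (f : M →+ N)).relIndex
    ((⊤ : AddSubgroup M).map (f : M →+ N)) = _
  rw [AddSubgroup.relIndex_map_map, top_sup_eq, AddSubgroup.relIndex_top_right]
  rfl

theorem twisted (hn : 0 < n) (δ δ' : Fin n → ℤ) (hδ : ∀ i, δ i ≠ 0) (hδ' : ∀ i, δ' i ≠ 0)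
    (A : Matrix (Fin n) (Fin n) ℤ) (hA : A.rank = n - 1)
    (hADΔ : (Matrix.mulVecLin A) ∘ₗ (Matrix.mulVecLin (Matrix.diagonal δ')) ∘ₗ
        (LinearMap.pi fun _ : Fin n => (LinearMap.id : ℤ →ₗ[ℤ] ℤ)) = 0)
    (L : Submodule ℤ (Fin n → ℤ))
    (hL : LinearMap.range (Matrix.mulVecLin (Matrix.diagonal δ) ∘ₗ Matrix.mulVecLin A) ≤ L) :
    (LinearMap.range (Matrix.mulVecLin (Matrix.diagonal δ) ∘ₗ Matrix.mulVecLin A)).toAddSubgroup.relIndex
        L.toAddSubgroup * |∏ i, δ' i| =
      univ.gcd δ' * (LinearMap.range ((Matrix.mulVecLin (Matrix.diagonal δ)) ∘ₗ (Matrix.mulVecLin A) ∘ₗ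
        (Matrix.mulVecLin (Matrix.diagonal δ')))).toAddSubgroup.relIndex L.toAddSubgroup := by
  let g := univ.gcd δ'
  have hg : g ≠ 0 := by
    intro h
    exact hδ' ⟨0, hn⟩ (Finset.gcd_eq_zero_iff.mp h ⟨0, hn⟩ (mem_univ _))
  choose v hv using fun i => Finset.gcd_dvd (f := δ') (mem_univ i)
  let D' := Matrix.mulVecLin (Matrix.diagonal δ')
  let f := Matrix.mulVecLin (Matrix.diagonal δ) ∘ₗ Matrix.mulVecLin A
  obtain ⟨c, hc⟩ := exists_bezout univ δ'
  have hcv : ∑ i, c i * v i = 1 := by
    apply mul_left_cancel₀ hg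
    rw [mul_one, Finset.mul_sum]
    refine Eq.trans (Finset.sum_congr rfl fun i _ => ?_) hc
    rw [hv i]; ring
  have hAv : Matrix.mulVecLin A v = 0 := by
    have h := LinearMap.congr_fun hADΔ 1
    have e : Matrix.mulVecLin (Matrix.diagonal δ') (fun _ => (1 : ℤ)) = g • v := by
      funext i
      rw [diag_apply, mul_one, Pi.smul_apply, smul_eq_mul]
      exact hv i
    simp only [LinearMap.coe_comp, Function.comp_apply, LinearMap.zero_apply] at h
    have e' : (LinearMap.pi fun _ : Fin n => (LinearMap.id : ℤ →ₗ[ℤ] ℤ)) (1 : ℤ) =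
        fun _ => (1 : ℤ) := rfl
    rw [e', e, map_smul] at h
    exact (smul_eq_zero.mp h).resolve_left hg
  have hv0 : v ≠ 0 := by
    intro h; simp [h] at hcv
  have hker : LinearMap.ker f = Submodule.span ℤ {v} := by
    rw [LinearMap.ker_comp, LinearMap.ker_eq_bot.mpr (diag_injective δ hδ), Submodule.comap_bot]
    refine le_antisymm (fun x hx => ?_) ?_
    · have hr : Module.finrank ℤ (LinearMap.ker (Matrix.mulVecLin A)) = 1 := by
        have h1 := (LinearMap.ker (Matrix.mulVecLin A)).finrank_quotient_add_finrank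
        rw [(LinearMap.quotKerEquivRange (Matrix.mulVecLin A)).finrank_eq] at h1
        have h2 : Module.finrank ℤ (LinearMap.range (Matrix.mulVecLin A)) = n - 1 := hA
        rw [h2, Module.finrank_fin_fun] at h1
        omega
      have hdep : ¬ LinearIndependent ℤ ![(⟨x, hx⟩ : LinearMap.ker (Matrix.mulVecLin A)), ⟨v, hAv⟩] := by
        intro hli
        have := hli.fintype_card_le_finrank
        simp [hr] at this
      rw [LinearIndependent.pair_iff] at hdep
      push Not at hdep
      obtain ⟨a, b, hab, hne⟩ := hdep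
      have hab' : a • x + b • v = 0 := congrArg Subtype.val hab
      have ha : a ≠ 0 := by
        intro ha
        rw [ha, zero_smul, zero_add] at hab'
        exact hne ha ((smul_eq_zero.mp hab').resolve_right hv0)
      rw [Submodule.mem_span_singleton]
      refine ⟨∑ i, c i * x i, ?_⟩
      have hb : b = -(a * ∑ i, c i * x i) := by
        calc b = ∑ i, c i * (b * v i) := by
              rw [show ∑ i, c i * (b * v i) = b * ∑ i, c i * v i by
                rw [Finset.mul_sum]; exact Finset.sum_congr rfl fun i _ => by ring, hcv, mul_one]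
          _ = _ := by
            rw [Finset.mul_sum, ← Finset.sum_neg_distrib]
            refine Finset.sum_congr rfl fun i _ => ?_
            have := congrFun hab' i
            simp only [Pi.add_apply, Pi.smul_apply, smul_eq_mul, Pi.zero_apply] at this
            linear_combination c i * this
      funext i
      have := congrFun hab' i
      simp only [Pi.add_apply, Pi.smul_apply, smul_eq_mul, Pi.zero_apply] at this
      rw [hb] at this
      apply mul_left_cancel₀ ha
      rw [Pi.smul_apply, smul_eq_mul]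
      linear_combination -this
    · rw [Submodule.span_le, Set.singleton_subset_iff]; exact hAv
  have hk : (LinearMap.range D').toAddSubgroup.relIndex (LinearMap.ker f).toAddSubgroup = g.natAbs := by
    rw [hker]
    let φ : ℤ →ₗ[ℤ] (Fin n → ℤ) := LinearMap.toSpanSingleton ℤ (Fin n → ℤ) v
    rw [← LinearMap.range_toSpanSingleton]
    have e : (LinearMap.range D').comap φ = Submodule.span ℤ {g} := by
      ext k
      rw [Submodule.mem_comap, Submodule.mem_span_singleton]
      constructor
      · rintro ⟨x, hx⟩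
        refine ⟨∑ i, c i * (v i * x i), ?_⟩
        rw [smul_eq_mul, Finset.sum_mul]
        calc ∑ i, c i * (v i * x i) * g = ∑ i, c i * (k * v i) := by
              refine Finset.sum_congr rfl fun i _ => ?_
              have := congrFun hx i
              rw [diag_apply] at this
              simp only [φ, LinearMap.toSpanSingleton_apply, Pi.smul_apply, smul_eq_mul] at this
              rw [← this, hv i]; ring
          _ = k := by
            calc ∑ i, c i * (k * v i) = k * ∑ i, c i * v i := by
                  rw [Finset.mul_sum]; exact Finset.sum_congr rfl fun i _ => by ring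
              _ = k := by rw [hcv, mul_one]
      · rintro ⟨a, rfl⟩
        refine ⟨fun _ => a, ?_⟩
        funext i
        rw [diag_apply, hv i]
        simp [φ]; ring
    have h : (LinearMap.range D').toAddSubgroup.relIndex (LinearMap.range φ).toAddSubgroup =
        ((LinearMap.range D').toAddSubgroup.comap (φ : ℤ →+ (Fin n → ℤ))).index := by
      rw [AddSubgroup.index_comap]; rfl
    rw [h]
    show ((LinearMap.range D').comap φ).toAddSubgroup.index = _
    rw [e, Submodule.span_singleton_toAddSubgroup_eq_zmultiples, Int.index_zmultiples]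
  have h1 : ((LinearMap.range D').toAddSubgroup ⊔ (LinearMap.ker f).toAddSubgroup).index * g.natAbs =
      (LinearMap.range D').toAddSubgroup.index := by
    rw [← hk, mul_comm, ← AddSubgroup.relIndex_sup_left (K := (LinearMap.range D').toAddSubgroup)
      (H := (LinearMap.ker f).toAddSubgroup)]
    exact AddSubgroup.relIndex_mul_index le_sup_left
  have h2 : (LinearMap.range (f ∘ₗ D')).toAddSubgroup.relIndex (LinearMap.range f).toAddSubgroup =
      ((LinearMap.range D').toAddSubgroup ⊔ (LinearMap.ker f).toAddSubgroup).index :=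
    relIndex_range_comp f D'
  have h3 := AddSubgroup.relIndex_mul_relIndex (LinearMap.range (f ∘ₗ D')).toAddSubgroup
    (LinearMap.range f).toAddSubgroup L.toAddSubgroup
    (fun x hx => LinearMap.range_comp_le_range D' f hx) (fun x hx => hL hx)
  rw [← index_range_diag δ' hδ', ← h1]
  show _ = g * _
  have : LinearMap.range ((Matrix.mulVecLin (Matrix.diagonal δ)) ∘ₗ (Matrix.mulVecLin A) ∘ₗ
        (Matrix.mulVecLin (Matrix.diagonal δ'))) = LinearMap.range (f ∘ₗ D') := rfl
  rw [this, ← h3, h2]
  have hgn : (g.natAbs : ℤ) = g := by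
    rw [Int.natCast_natAbs, abs_of_nonneg]
    exact Int.nonneg_of_normalize_eq_self Finset.normalize_gcd
  push_cast
  rw [Int.natCast_natAbs] at hgn
  rw [hgn]
  ring

end Groth.Agent.CompLatIdx.Basic
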